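import Cfsg.Agent.Lib.Helper85.ModelCore
import Cfsg.Agent.Lib.Helper63.HallHigman
import Cfsg.Agent.Lib.Helper69.PSolvable
import Cfsg.Agent.Lib.Helper69.CyclicSylow

set_option autoImplicit false
open Cfsg Cfsg.FusionSystem

namespace Cfsg.Agent.Lib.Helper85.ModelCore

open Cfsg.Agent.Lib.Helper85 Cfsg.Agent.Lib.Helper63

variable {Ω : Type*} [Group Ω] {S : Subgroup Ω} {G : Type*} [Group G]

theorem pCore_le_range {p : ℕ} {ι : S →* G} (T : Sylow p G) (hT : (T : Subgroup G) = ι.range) :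
    pCore p G ≤ ι.range := by
  rw [← hT]
  exact pCore_le_sylow' p T

/-- For a model `G` of `F`, `O_p(F)` is the preimage of `O_p(G)`. -/
theorem core_eq {p : ℕ} [Fact p.Prime] (hS : IsPGroup p S) {F : FusionSystem S} {ι : S →* G}
    (hmod : F.IsModel p G ι) : F.core = preSub ι (pCore p G) := by
  obtain ⟨-, hreal, ⟨T, hT⟩, hc⟩ := hmod
  haveI : (pCore p G).Normal :=
    @Subgroup.normal_of_characteristic _ _ _ (Cfsg.Agent.Lib.Helper63.pCore_characteristic' p G)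
  have hR' : pCore p G ≤ ι.range := pCore_le_range T hT
  apply le_antisymm
  · apply sSup_le
    intro Q hQ
    have hn := normal_imSub hreal (pCore p G) hR' hc hQ
    have hp : IsPGroup p (imSub ι Q) := (hS.to_subgroup (Q.subgroupOf S)).map ι
    have hle := le_pCore' hn hp
    rw [← preSub_imSub hreal.1 hQ.1]
    exact preSub_mono ι hle
  · exact le_sSup (isNormal_preSub hreal (pCore p G) hR')

/-- A saturated system with a model is constrained. -/
theorem isConstrained_of_model {p : ℕ} [Fact p.Prime] {F : FusionSystem S} {ι : S →* G}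
    (hF : F.IsSaturated p) (hmod : F.IsModel p G ι) : F.IsConstrained p := by
  obtain ⟨-, hreal, ⟨T, hT⟩, hc⟩ := hmod
  haveI : (pCore p G).Normal :=
    @Subgroup.normal_of_characteristic _ _ _ (Cfsg.Agent.Lib.Helper63.pCore_characteristic' p G)
  have hR' : pCore p G ≤ ι.range := pCore_le_range T hT
  exact ⟨hF, _, isNormal_preSub hreal (pCore p G) hR', isCentric_preSub hreal (pCore p G) hR' hc⟩

/-- For a model `G` of `F`: the conjugation action of `G` on `O_p(F)` has image `Aut_F(O_p(F))` and kernel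
`C_G(O_p(G))`. -/
theorem exists_autHom_core {p : ℕ} [Fact p.Prime] (hS : IsPGroup p S) {F : FusionSystem S} {ι : S →* G}
    (hmod : F.IsModel p G ι) :
    ∃ Φ : G →* MulAut ↥F.core, Φ.range = F.autGroup F.core ∧
      Φ.ker = Subgroup.centralizer ((pCore p G : Subgroup G) : Set G) := by
  rw [core_eq hS hmod]
  obtain ⟨-, hreal, ⟨T, hT⟩, hc⟩ := hmod
  haveI : (pCore p G).Normal :=
    @Subgroup.normal_of_characteristic _ _ _ (Cfsg.Agent.Lib.Helper63.pCore_characteristic' p G)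
  exact exists_autHom hreal (pCore p G) (pCore_le_range T hT)

/-- Passing to the quotient by a normal `p'`-subgroup does not change the realized system. -/
theorem isRealizedBy_quotient [Finite G] {p : ℕ} [Fact p.Prime] {F : FusionSystem S} {ι : S →* G}
    (hreal : F.IsRealizedBy ι) (T : Sylow p G) (hT : (T : Subgroup G) = ι.range)
    (K : Subgroup G) [hKn : K.Normal] (hK : (Nat.card K).Coprime p) :
    F.IsRealizedBy ((QuotientGroup.mk' K).comp ι) := by
  have hdisj : ι.range ⊓ K = ⊥ := by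
    rw [← hT]
    apply Subgroup.inf_eq_bot_of_coprime
    obtain ⟨n, hn⟩ := T.isPGroup'.exists_card_eq
    rw [hn]
    exact Nat.Coprime.pow_left n hK.symm
  have hinj : Function.Injective ((QuotientGroup.mk' K).comp ι) := by
    rw [injective_iff_map_eq_one]
    intro x hx
    have h1 : ι x ∈ K := (QuotientGroup.eq_one_iff _).1 hx
    have h2 : ι x ∈ ι.range ⊓ K := ⟨⟨x, rfl⟩, h1⟩
    rw [hdisj, Subgroup.mem_bot] at h2
    exact (injective_iff_map_eq_one ι).1 hreal.1 x h2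
  refine ⟨hinj, fun P hP φ hφ => ?_⟩
  rw [hreal.2 P hP φ hφ]
  constructor
  · rintro ⟨g, hg⟩
    refine ⟨QuotientGroup.mk' K g, fun x => ?_⟩
    show QuotientGroup.mk' K (ι ⟨φ x, hφ x⟩) = _
    rw [hg x, map_mul, map_mul, map_inv]
    rfl
  · rintro ⟨gbar, hg⟩
    obtain ⟨g, rfl⟩ := QuotientGroup.mk'_surjective K gbar
    have hgK : ∀ x : P, (ι ⟨φ x, hφ x⟩)⁻¹ * (g * ι ⟨x, hP x.2⟩ * g⁻¹) ∈ K := by
      intro x
      have h1 := hg x
      have h2 : QuotientGroup.mk' K (ι ⟨φ x, hφ x⟩) =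
          QuotientGroup.mk' K (g * ι ⟨x, hP x.2⟩ * g⁻¹) := by
        rw [map_mul, map_mul, map_inv]
        exact h1
      rw [← QuotientGroup.eq_one_iff, ← QuotientGroup.mk'_apply, map_mul, map_inv, h2, inv_mul_cancel]
    let H : Subgroup G := ((P.subgroupOf S).map ι).map (MulAut.conj g).toMonoidHom
    have hH : IsPGroup p H := ((T.isPGroup'.to_le (by
      rw [hT]; rintro _ ⟨x, -, rfl⟩; exact ⟨x, rfl⟩ : (P.subgroupOf S).map ι ≤ (T : Subgroup G)))).map _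
    have hle : H ≤ (T : Subgroup G) ⊔ K := by
      rintro _ ⟨_, ⟨x, hx, rfl⟩, rfl⟩
      have hxP : (x : Ω) ∈ P := Subgroup.mem_subgroupOf.mp hx
      have h1 := hgK ⟨x, hxP⟩
      have h2 : ι ⟨φ ⟨x, hxP⟩, hφ _⟩ ∈ (T : Subgroup G) := by rw [hT]; exact ⟨_, rfl⟩
      have h3 : (MulAut.conj g).toMonoidHom (ι x) =
          ι ⟨φ ⟨x, hxP⟩, hφ _⟩ * ((ι ⟨φ ⟨x, hxP⟩, hφ _⟩)⁻¹ * (g * ι x * g⁻¹)) := by
        rw [mul_inv_cancel_left]
        rfl
      rw [h3]
      exact Subgroup.mul_mem_sup h2 h1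
    obtain ⟨c, hc, hcH⟩ := Cfsg.Agent.Lib.Helper86.exists_conj_mem_of_le_sup (T : Subgroup G)
      T.isPGroup' T.not_dvd_index K H hH hle
    refine ⟨c * g, fun x => ?_⟩
    have h1 : c * (g * ι ⟨x, hP x.2⟩ * g⁻¹) * c⁻¹ ∈ (T : Subgroup G) :=
      hcH _ ⟨_, ⟨⟨x, hP x.2⟩, Subgroup.mem_subgroupOf.mpr x.2, rfl⟩, rfl⟩
    have h2 : ι ⟨φ x, hφ x⟩ ∈ (T : Subgroup G) := by rw [hT]; exact ⟨_, rfl⟩
    have h3 : (ι ⟨φ x, hφ x⟩)⁻¹ * (c * (g * ι ⟨x, hP x.2⟩ * g⁻¹) * c⁻¹) ∈ K := by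
      have h4 : (ι ⟨φ x, hφ x⟩)⁻¹ * (c * (g * ι ⟨x, hP x.2⟩ * g⁻¹) * c⁻¹) =
          ((ι ⟨φ x, hφ x⟩)⁻¹ * c * ι ⟨φ x, hφ x⟩) *
            (((ι ⟨φ x, hφ x⟩)⁻¹ * (g * ι ⟨x, hP x.2⟩ * g⁻¹)) * c⁻¹) := by group
      rw [h4]
      refine K.mul_mem ?_ (K.mul_mem (hgK x) (K.inv_mem hc))
      have := hKn.conj_mem c hc (ι ⟨φ x, hφ x⟩)⁻¹
      rwa [inv_inv] at this
    have h5 : (ι ⟨φ x, hφ x⟩)⁻¹ * (c * (g * ι ⟨x, hP x.2⟩ * g⁻¹) * c⁻¹) ∈ ι.range ⊓ K := by
      refine ⟨?_, h3⟩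
      rw [← hT]
      exact (T : Subgroup G).mul_mem ((T : Subgroup G).inv_mem h2) h1
    rw [hdisj, Subgroup.mem_bot, inv_mul_eq_one] at h5
    rw [h5]
    group

/-- The image of a Sylow `p`-subgroup in a quotient is a Sylow `p`-subgroup. -/
theorem exists_sylow_quotient [Finite G] {p : ℕ} [Fact p.Prime] {ι : S →* G}
    (T : Sylow p G) (hT : (T : Subgroup G) = ι.range) (K : Subgroup G) [K.Normal] :
    ∃ T' : Sylow p (G ⧸ K), (T' : Subgroup (G ⧸ K)) = ((QuotientGroup.mk' K).comp ι).range := by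
  have h1 : ((QuotientGroup.mk' K).comp ι).range = (T : Subgroup G).map (QuotientGroup.mk' K) := by
    rw [MonoidHom.range_comp, hT]
  have hp : IsPGroup p ↥((T : Subgroup G).map (QuotientGroup.mk' K)) := T.isPGroup'.map _
  have hi : ¬ p ∣ ((T : Subgroup G).map (QuotientGroup.mk' K)).index := by
    intro hdvd
    exact T.not_dvd_index (hdvd.trans (Subgroup.index_map_dvd _ (QuotientGroup.mk'_surjective K)))
  exact ⟨hp.toSylow hi, by rw [h1]; rfl⟩

end Cfsg.Agent.Lib.Helper85.ModelCore
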