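import Mathlib
import Cfsg.Prelude.Def_FusionSystem
import Cfsg.Agent.Lib.Helper85.Realized
import Cfsg.Agent.Lib.Helper85.FusionBasic

set_option autoImplicit false

/-! The fusion system on a subgroup `T` generated by `Inn(T)` and a subgroup `B ≤ Aut(T)`:
it is the fusion system of the semidirect product `T ⋊ B` on `T`, hence saturated when the
order of `B` is prime to `p`. -/

namespace Cfsg.Agent.Lib.Helper85

open Cfsg Cfsg.FusionSystem

variable {Ω : Type*} [Group Ω]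

/-- The fusion system on `T` whose maps are the restrictions of `c_t ∘ γ`, `t ∈ T`, `γ ∈ B`. -/
def autSys (T : Subgroup Ω) (B : Subgroup (MulAut T)) : FusionSystem T where
  Hom P := {φ | ∃ hP : P ≤ T, ∃ t : T, ∃ γ ∈ B, ∀ x : P,
    φ x = (t : Ω) * ((γ ⟨x, hP x.2⟩ : T) : Ω) * (t : Ω)⁻¹}
  le_of_mem := by
    rintro P φ ⟨hP, t, γ, -, h⟩
    refine ⟨hP, fun x => ?_⟩
    rw [h x]
    exact T.mul_mem (T.mul_mem t.2 (γ _).2) (T.inv_mem t.2)
  injective_of_mem := by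
    rintro P φ ⟨hP, t, γ, -, h⟩ a b hab
    rw [h a, h b] at hab
    have h1 : ((γ ⟨a, hP a.2⟩ : T) : Ω) = ((γ ⟨b, hP b.2⟩ : T) : Ω) :=
      mul_left_cancel (mul_right_cancel hab)
    have h2 := γ.injective (Subtype.ext h1)
    have h3 : (a : Ω) = b := congrArg (fun z : T => (z : Ω)) h2
    exact Subtype.ext h3
  conj_mem := by
    intro P g hP hg
    refine ⟨hP, ⟨g, hg⟩, 1, B.one_mem, fun x => ?_⟩
    rfl
  comp_mem := by
    rintro P Q φ ψ ⟨hP, t₁, γ₁, hγ₁, h₁⟩ ⟨hQ, t₂, γ₂, hγ₂, h₂⟩ hPQ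
    refine ⟨hP, t₂ * γ₂ t₁, γ₂ * γ₁, B.mul_mem hγ₂ hγ₁, fun x => ?_⟩
    have e1 : (ψ.comp (φ.codRestrict Q hPQ)) x = ψ ⟨φ x, hPQ x⟩ := rfl
    rw [e1, h₂]
    have e2 : (⟨((⟨φ x, hPQ x⟩ : Q) : Ω), hQ (hPQ x)⟩ : T) = t₁ * γ₁ ⟨x, hP x.2⟩ * t₁⁻¹ :=
      Subtype.ext (h₁ x)
    rw [e2]
    simp only [map_mul, map_inv, Subgroup.coe_mul, Subgroup.coe_inv, MulAut.mul_apply, mul_inv_rev,
      mul_assoc]
  inv_mem := by
    rintro P φ ⟨hP, t, γ, hγ, h⟩
    have hr : φ.range ≤ T := by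
      rintro _ ⟨x, rfl⟩
      rw [h x]
      exact T.mul_mem (T.mul_mem t.2 (γ _).2) (T.inv_mem t.2)
    let ψ : φ.range →* Ω :=
      T.subtype.comp ((γ⁻¹ * MulAut.conj t⁻¹ : MulAut T).toMonoidHom.comp (Subgroup.inclusion hr))
    refine ⟨ψ, ⟨hr, γ⁻¹ t⁻¹, γ⁻¹, B.inv_mem hγ, fun y => ?_⟩, fun x => ?_⟩
    · show ((γ⁻¹ (MulAut.conj t⁻¹ ⟨y, hr y.2⟩) : T) : Ω) = _
      have e3 : (γ⁻¹ (MulAut.conj t⁻¹ ⟨y, hr y.2⟩) : T)
          = γ⁻¹ t⁻¹ * γ⁻¹ ⟨y, hr y.2⟩ * (γ⁻¹ t⁻¹)⁻¹ := by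
        rw [MulAut.conj_apply, map_mul, map_mul, inv_inv, map_inv, inv_inv]
      rw [e3]
      simp only [Subgroup.coe_mul, Subgroup.coe_inv]
    · show ((γ⁻¹ (MulAut.conj t⁻¹ ⟨φ x, hr ⟨x, rfl⟩⟩) : T) : Ω) = _
      have e2 : (⟨φ x, hr ⟨x, rfl⟩⟩ : T) = t * γ ⟨x, hP x.2⟩ * t⁻¹ := Subtype.ext (h x)
      rw [e2]
      have e3 : (γ⁻¹ (MulAut.conj t⁻¹ (t * γ ⟨x, hP x.2⟩ * t⁻¹)) : T) = ⟨x, hP x.2⟩ := by
        rw [MulAut.conj_apply]
        have e4 : t⁻¹ * (t * γ ⟨x, hP x.2⟩ * t⁻¹) * t⁻¹⁻¹ = γ ⟨x, hP x.2⟩ := by group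
        rw [e4]
        exact γ.symm_apply_apply _
      rw [e3]

theorem mem_autSys_iff {T : Subgroup Ω} {B : Subgroup (MulAut T)} {P : Subgroup Ω}
    {φ : P →* Ω} :
    φ ∈ (autSys T B).Hom P ↔ ∃ hP : P ≤ T, ∃ t : T, ∃ γ ∈ B, ∀ x : P,
      φ x = (t : Ω) * ((γ ⟨x, hP x.2⟩ : T) : Ω) * (t : Ω)⁻¹ := Iff.rfl

/-- conjugation in the semidirect product -/
theorem semi_conj_inl {T : Type*} [Group T] {B : Subgroup (MulAut T)}
    (g : T ⋊[B.subtype] B) (x : T) :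
    g * (SemidirectProduct.inl x : T ⋊[B.subtype] B) * g⁻¹
      = SemidirectProduct.inl (g.left * (g.right : MulAut T) x * g.left⁻¹) := by
  ext
  · simp [SemidirectProduct.mul_left, SemidirectProduct.inv_left, mul_assoc]
  · simp

theorem autSys_realized (T : Subgroup Ω) (B : Subgroup (MulAut T)) :
    (autSys T B).IsRealizedBy (SemidirectProduct.inl : T →* T ⋊[B.subtype] B) := by
  refine ⟨SemidirectProduct.inl_injective, fun P hP φ hφ => ?_⟩
  constructor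
  · rintro ⟨hP', t, γ, hγ, h⟩
    refine ⟨SemidirectProduct.inl t * SemidirectProduct.inr ⟨γ, hγ⟩, fun x => ?_⟩
    rw [semi_conj_inl]
    congr 1
    apply Subtype.ext
    simp [h x]
  · rintro ⟨g, hg⟩
    refine ⟨hP, g.left, g.right, g.right.2, fun x => ?_⟩
    have h1 := hg x
    rw [semi_conj_inl] at h1
    have h2 := SemidirectProduct.inl_injective h1
    have h3 := congrArg Subtype.val h2
    simpa using h3

theorem autSys_saturated {T : Subgroup Ω} [Finite T] (p : ℕ) [Fact p.Prime]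
    (hT : IsPGroup p T) (B : Subgroup (MulAut T)) (hB : (Nat.card B).Coprime p) :
    (autSys T B).IsSaturated p := by
  have hfin : Finite (T ⋊[B.subtype] B) := by
    have : Finite (T × B) := inferInstance
    exact Finite.of_equiv _ SemidirectProduct.equivProd.symm
  have hpg : IsPGroup p (SemidirectProduct.inl : T →* T ⋊[B.subtype] B).range := by
    have e : T ≃* (SemidirectProduct.inl : T →* T ⋊[B.subtype] B).range :=
      MonoidHom.ofInjective SemidirectProduct.inl_injective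
    exact hT.of_equiv e
  have hidx : ¬ p ∣ (SemidirectProduct.inl : T →* T ⋊[B.subtype] B).range.index := by
    rw [SemidirectProduct.range_inl_eq_ker_rightHom, Subgroup.index_ker,
      MonoidHom.range_eq_top.2 SemidirectProduct.rightHom_surjective, Subgroup.card_top]
    intro h
    have hp : p.Prime := Fact.out
    have := Nat.Coprime.eq_one_of_dvd hB.symm h
    exact hp.one_lt.ne' this
  exact realized_isSaturated (autSys_realized T B) (hpg.toSylow hidx) (by simp)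

/-- the automorphism group of `T` in `autSys T B` -/
theorem mem_autGroup_autSys {T : Subgroup Ω} {B : Subgroup (MulAut T)} {α : MulAut T} :
    α ∈ (autSys T B).autGroup T ↔ ∃ t : T, ∃ γ ∈ B, α = MulAut.conj t * γ := by
  rw [mem_autGroup_iff (autSys T B) le_rfl]
  constructor
  · rintro ⟨hP, t, γ, hγ, h⟩
    refine ⟨t, γ, hγ, ?_⟩
    ext x
    have := h x
    simpa [MulAut.conj_apply] using this
  · rintro ⟨t, γ, hγ, rfl⟩
    exact ⟨le_rfl, t, γ, hγ, fun x => by simp [MulAut.conj_apply]⟩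

theorem autSys_subsystem {S : Subgroup Ω} (F : FusionSystem S) {T : Subgroup Ω} (hT : T ≤ S)
    {B : Subgroup (MulAut T)} (hB : B ≤ F.autGroup T) : (autSys T B).IsSubsystemOf F := by
  rintro P φ ⟨hP, t, γ, hγ, h⟩
  have h1 : T.subtype.comp γ.toMonoidHom ∈ F.Hom T := (mem_autGroup_iff F hT γ).1 (hB hγ)
  have h2 := restrict_mem F hP h1
  have h3 : conjHom T (t : Ω) ∈ F.Hom T := F.conj_mem hT (hT t.2)
  have h4 := F.comp_mem h2 h3 (fun x => (γ _).2)
  have e : φ = (conjHom T (t : Ω)).comp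
      (((T.subtype.comp γ.toMonoidHom).comp (Subgroup.inclusion hP)).codRestrict T
        (fun x => (γ _).2)) := by
    ext x
    rw [h x]
    rfl
  rw [e]
  exact h4

end Cfsg.Agent.Lib.Helper85
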