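import Cfsg.Agent.Lib.Helper88.GlauFus
import Cfsg.Agent.Lib.Helper84.FusionSat2
import Cfsg.Agent.Lib.Helper87.FusionStrongly

set_option autoImplicit false
open Cfsg Cfsg.FusionSystem

namespace Cfsg.Agent.Lib.Helper85.CenterFactor

section abstract

variable {Γ A : Type*} [Group Γ] [CommGroup A]

/-- Fixed points of a subgroup under an action by automorphisms. -/
def fixS (ρ : Γ →* MulAut A) (H : Subgroup Γ) : Subgroup A where
  carrier := {a | ∀ γ ∈ H, ρ γ a = a}
  one_mem' := fun γ _ => map_one _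
  mul_mem' := by
    intro a b ha hb γ hγ
    rw [map_mul, ha γ hγ, hb γ hγ]
  inv_mem' := by
    intro a ha γ hγ
    rw [map_inv, ha γ hγ]

theorem fixS_mono (ρ : Γ →* MulAut A) {H H' : Subgroup Γ} (h : H ≤ H') : fixS ρ H' ≤ fixS ρ H :=
  fun _ ha γ hγ => ha γ (h hγ)

theorem eq_one_of_pow_coprime' {G : Type*} [Group G] {x : G} {m n : ℕ} (hm : x ^ m = 1)
    (hn : x ^ n = 1) (h : Nat.Coprime m n) : x = 1 := by
  have h1 : orderOf x ∣ m := orderOf_dvd_of_pow_eq_one hm
  have h2 : orderOf x ∣ n := orderOf_dvd_of_pow_eq_one hn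
  have h3 : orderOf x ∣ Nat.gcd m n := Nat.dvd_gcd h1 h2
  rw [h] at h3
  exact orderOf_eq_one_iff.mp (Nat.dvd_one.mp h3)

/-- Relative trace: the fixed points of `Γ` on an abelian `p`-group are a direct factor of the fixed points
of a subgroup of index prime to `p`. -/
theorem trace_decomp [Finite Γ] (ρ : Γ →* MulAut A) (H₀ : Subgroup Γ) {p : ℕ} [Fact p.Prime]
    (hA : IsPGroup p A) (hm : ¬ p ∣ H₀.index) :
    ∃ K : Subgroup A, K ≤ fixS ρ H₀ ∧ fixS ρ ⊤ ⊓ K = ⊥ ∧ fixS ρ ⊤ ⊔ K = fixS ρ H₀ := by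
  classical
  haveI : Fintype (Γ ⧸ H₀) := Fintype.ofFinite _
  let T : A →* A := ∏ q : Γ ⧸ H₀, (ρ (Quotient.out q)).toMonoidHom
  have hT : ∀ a, T a = ∏ q : Γ ⧸ H₀, ρ (Quotient.out q) a := fun a => by
    simp only [T, MonoidHom.finset_prod_apply]
    rfl
  have key1 : ∀ a ∈ fixS ρ H₀, ∀ γ : Γ,
      ρ (Quotient.out (QuotientGroup.mk γ : Γ ⧸ H₀)) a = ρ γ a := by
    intro a ha γ
    obtain ⟨σ, hσ⟩ := QuotientGroup.mk_out_eq_mul H₀ γ
    rw [hσ, map_mul, MulAut.mul_apply, ha σ σ.2]
  have key2 : ∀ a ∈ fixS ρ H₀, ∀ γ' : Γ, ρ γ' (T a) = T a := by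
    intro a ha γ'
    rw [hT, map_prod]
    have h1 : ∀ q : Γ ⧸ H₀, ρ γ' (ρ (Quotient.out q) a) = ρ (Quotient.out (γ' • q)) a := by
      intro q
      have h2 : γ' • q = QuotientGroup.mk (γ' * Quotient.out q) := by
        conv_lhs => rw [← QuotientGroup.out_eq' q]
        rfl
      rw [h2, key1 a ha, map_mul, MulAut.mul_apply]
    simp_rw [h1]
    exact Fintype.prod_equiv (MulAction.toPerm γ') _ _ (fun q => rfl)
  have key3 : ∀ a ∈ fixS ρ ⊤, T a = a ^ H₀.index := by
    intro a ha
    rw [hT]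
    have h1 : ∀ q : Γ ⧸ H₀, ρ (Quotient.out q) a = a := fun q => ha _ (Subgroup.mem_top _)
    simp_rw [h1]
    rw [Finset.prod_const, Finset.card_univ, Subgroup.index, Nat.card_eq_fintype_card]
  have hcop : p.Coprime H₀.index := (Nat.Prime.coprime_iff_not_dvd Fact.out).mpr hm
  refine ⟨T.ker ⊓ fixS ρ H₀, inf_le_right, ?_, ?_⟩
  · rw [eq_bot_iff]
    rintro a ⟨haΓ, haK, -⟩
    have h1 : a ^ H₀.index = 1 := by
      rw [← key3 a haΓ]
      exact haK
    obtain ⟨k, hk⟩ := hA a
    exact eq_one_of_pow_coprime' h1 hk (Nat.Coprime.pow_right _ hcop.symm)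
  · apply le_antisymm
    · exact sup_le (fixS_mono ρ le_top) inf_le_right
    · intro a ha
      have hTa : T a ∈ fixS ρ ⊤ := fun γ _ => key2 a ha γ
      have hpG : IsPGroup p (fixS ρ ⊤) := hA.to_subgroup _
      obtain ⟨w, hw⟩ := (hpG.powEquiv hcop).surjective ⟨T a, hTa⟩
      rw [IsPGroup.powEquiv_apply] at hw
      have hw' : (w : A) ^ H₀.index = T a := congrArg Subtype.val hw
      have hsplit : a = (w : A) * ((w : A)⁻¹ * a) := by group
      rw [hsplit]
      refine Subgroup.mul_mem_sup w.2 ⟨?_, ?_⟩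
      · show T ((w : A)⁻¹ * a) = 1
        rw [map_mul, map_inv, key3 _ w.2, hw', inv_mul_cancel]
      · exact Subgroup.mul_mem _ (Subgroup.inv_mem _ (fixS_mono ρ le_top w.2)) ha

end abstract

section res

variable (J : Type*) [Group J]

theorem aut_mem_center {J : Type*} [Group J] (α : MulAut J) {a : J} (ha : a ∈ Subgroup.center J) :
    α a ∈ Subgroup.center J :=
  (Subgroup.characteristic_iff_le_comap.mp Subgroup.centerCharacteristic α) ha

/-- Restriction of automorphisms to the centre. -/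
def resCenter : MulAut J →* MulAut (Subgroup.center J) where
  toFun α :=
    { toFun := fun a => ⟨α a, aut_mem_center α a.2⟩
      invFun := fun a => ⟨α⁻¹ a, aut_mem_center α⁻¹ a.2⟩
      left_inv := fun a => by
        apply Subtype.ext
        simp
      right_inv := fun a => by
        apply Subtype.ext
        simp
      map_mul' := fun a b => by
        apply Subtype.ext
        simp }
  map_one' := by
    ext a
    rfl
  map_mul' := fun α β => by
    ext a
    rfl

theorem resCenter_apply (α : MulAut J) (a : Subgroup.center J) :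
    ((resCenter J α a : Subgroup.center J) : J) = α a := rfl

end res

section fus

universe u

open scoped IsMulCommutative

open Cfsg.Agent.Lib

variable {Ω : Type u} [Group Ω] {S : Subgroup Ω}

/-- If `J` is normal in the saturated system `F` and contains `Z(S)`, then `Z(F)` is a direct factor
of `Z(S)`. -/
theorem center_direct_factor_of_normal [Finite S] {p : ℕ} [Fact p.Prime] (hS : IsPGroup p S)
    {F : FusionSystem S} (hF : F.IsSaturated p) {J : Subgroup Ω} (hJ : F.IsNormal J)
    (hZJ : S ⊓ Subgroup.centralizer (S : Set Ω) ≤ J) :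
    ∃ K : Subgroup Ω, K ≤ S ⊓ Subgroup.centralizer (S : Set Ω) ∧ F.center ⊓ K = ⊥ ∧
      F.center ⊔ K = S ⊓ Subgroup.centralizer (S : Set Ω) := by
  have hJS : J ≤ S := hJ.1
  haveI : Finite J := Finite.of_injective _ (Subgroup.inclusion_injective hJS)
  have hSnJ : S ≤ Subgroup.normalizer (J : Set Ω) :=
    Helper87.stronglyClosed_le_normalizer F (Helper87.isNormal_stronglyClosed F hJ)
  have hNJ : normalizerIn S J = S := le_antisymm inf_le_left (le_inf le_rfl hSnJ)
  have hfn : F.IsFullyNormalized J := by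
    refine ⟨hJS, fun Q _ => ?_⟩
    rw [hNJ]
    exact Subgroup.card_le_of_le inf_le_left
  obtain ⟨-, R, hR⟩ := Helper84.fullyAutomized_of_fullyNormalized p hS F hF hfn
  have hm : ¬ p ∣ ((autInducedBy S J).subgroupOf (F.autGroup J)).index := by
    rw [← hR]
    exact R.not_dvd_index
  have hA : IsPGroup p (Subgroup.center J) := (hS.to_le hJS).to_subgroup _
  obtain ⟨K, hK1, hK2, hK3⟩ := trace_decomp (A := ↥(Subgroup.center ↥J)) ((resCenter J).comp (F.autGroup J).subtype)
    ((autInducedBy S J).subgroupOf (F.autGroup J)) hA hm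
  have hι : Function.Injective (J.subtype.comp (Subgroup.center J).subtype) :=
    (Subgroup.subtype_injective _).comp (Subgroup.subtype_injective _)
  have hcen : ∀ x : Ω, x ∈ S ⊓ Subgroup.centralizer (S : Set Ω) →
      ∃ (hxJ : x ∈ J), (⟨x, hxJ⟩ : J) ∈ Subgroup.center J := by
    intro x hx
    refine ⟨hZJ hx, ?_⟩
    rw [Subgroup.mem_center_iff]
    intro g
    apply Subtype.ext
    exact (Subgroup.mem_centralizer_iff.mp hx.2) g (hJS g.2)
  have hSig : (fixS ((resCenter J).comp (F.autGroup J).subtype)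
      ((autInducedBy S J).subgroupOf (F.autGroup J))).map
      (J.subtype.comp (Subgroup.center J).subtype) = S ⊓ Subgroup.centralizer (S : Set Ω) := by
    ext x
    constructor
    · rintro ⟨a, ha, rfl⟩
      refine ⟨hJS a.1.2, ?_⟩
      apply Subgroup.mem_centralizer_iff.mpr
      intro s hs
      have hσ := Helper87.conjAut_mem_autInducedBy S J hs (hSnJ hs)
      have hσΓ := Helper87.autInducedBy_le_autGroup F hJS hσ
      have h1 := ha ⟨Helper87.conjAut J s (hSnJ hs), hσΓ⟩ hσ
      have h2 : s * ((a : J) : Ω) * s⁻¹ = ((a : J) : Ω) :=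
        congrArg (fun t : Subgroup.center J => ((t : J) : Ω)) h1
      show s * ((a : J) : Ω) = ((a : J) : Ω) * s
      calc s * ((a : J) : Ω) = (s * ((a : J) : Ω) * s⁻¹) * s := by group
        _ = ((a : J) : Ω) * s := by rw [h2]
    · intro hx
      obtain ⟨hxJ, hxc⟩ := hcen x hx
      refine ⟨⟨⟨x, hxJ⟩, hxc⟩, ?_, rfl⟩
      intro γ hγ
      obtain ⟨g, hg, hgγ⟩ := (Helper87.mem_autInducedBy_iff S J γ.1).1 hγ
      apply Subtype.ext
      apply Subtype.ext
      show (((γ : MulAut J) ⟨x, hxJ⟩ : J) : Ω) = x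
      rw [hgγ]
      have h1 := (Subgroup.mem_centralizer_iff.mp hx.2) g hg
      show g * x * g⁻¹ = x
      rw [h1]
      group
  have hΓ : (fixS ((resCenter J).comp (F.autGroup J).subtype) ⊤).map
      (J.subtype.comp (Subgroup.center J).subtype) = F.center := by
    ext x
    constructor
    · rintro ⟨a, ha, rfl⟩
      apply Helper88.mem_center_of_fix hS hF (hJS a.1.2)
      intro P f hf hxP
      obtain ⟨f', hf', hf'f, hf'J, -⟩ := Helper88.normal_extend hJ hf
      obtain ⟨α, hα, hαf⟩ := Helper88.Mor.exists_aut (hf'.res (le_sup_right : J ≤ P ⊔ J)) hf'J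
      have h1 := ha ⟨α, hα⟩ (Subgroup.mem_top _)
      have h2 : ((α (a : J) : J) : Ω) = ((a : J) : Ω) :=
        congrArg (fun t : Subgroup.center J => ((t : J) : Ω)) h1
      show f ((a : J) : Ω) = ((a : J) : Ω)
      rw [← hf'f _ hxP, ← hαf, h2]
    · intro hx
      have hxS : x ∈ S := Helper88.center_le_S F hx
      have hxZ : x ∈ S ⊓ Subgroup.centralizer (S : Set Ω) := by
        refine ⟨hxS, ?_⟩
        apply Subgroup.mem_centralizer_iff.mpr
        intro s hs
        have h1 := Helper88.central_of_center hx s hs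
        calc s * x = (s * x * s⁻¹) * s := by group
          _ = x * s := by rw [h1]
      obtain ⟨hxJ, hxc⟩ := hcen x hxZ
      refine ⟨⟨⟨x, hxJ⟩, hxc⟩, ?_, rfl⟩
      intro γ _
      have hmor := (Helper88.mem_autGroup_iff F hJS γ.1).mp γ.2
      have h1 := Helper88.center_fix hx J _ hmor hxJ
      rw [Helper88.extFun_mem _ hxJ] at h1
      apply Subtype.ext
      apply Subtype.ext
      exact h1
  refine ⟨K.map (J.subtype.comp (Subgroup.center J).subtype), ?_, ?_, ?_⟩
  · rw [← hSig]
    exact Subgroup.map_mono hK1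
  · rw [← hΓ, ← Subgroup.map_inf _ _ _ hι, hK2, Subgroup.map_bot]
  · rw [← hΓ, ← Subgroup.map_sup, hK3, hSig]

end fus

end Cfsg.Agent.Lib.Helper85.CenterFactor
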