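import Mathlib
import Cfsg.Agent.Lib.Helper85.MaxCls
import Cfsg.Agent.Lib.Helper86.Saturated
import Cfsg.Agent.Lib.Helper87.FusionAlperin
import Cfsg.Agent.Lib.Helper84.StronglyEmb
import Cfsg.Agent.Lib.Helper84.FusionSat
import Cfsg.Agent.Lib.Helper84.CtrlFusion

set_option autoImplicit false

/-!
Fusion systems on `p`-groups of maximal class: if some automorphism in the system of the second
centre moves the centre, the centralizer of the second centre is essential.
-/

namespace Cfsg.Agent.Lib.Helper85.MaxCls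

open Cfsg Cfsg.FusionSystem Cfsg.Agent.Lib

variable {Ω : Type*} [Group Ω] {S : Subgroup Ω}

/-- nilpotency class from the lower central series -/
theorem class_eq_of_lcs [Finite S] {p : ℕ} [Fact p.Prime] (n : ℕ) (hn : Nat.card S = p ^ n)
    (h2 : 2 ≤ n) (hmax : Subgroup.lowerCentralSeries S (n - 2) ≠ ⊥) :
    Group.nilpotencyClass ↥S = n - 1 := by
  have hP : IsPGroup p ↥S := IsPGroup.of_card hn
  haveI : Group.IsNilpotent ↥S := hP.isNilpotent
  have h1 := Helper73.nilpotencyClass_le_pred h2 hn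
  have h3 : ¬ Group.nilpotencyClass ↥S ≤ n - 2 := by
    intro h
    apply hmax
    rw [← Subgroup.top_subtype_lowerCentralSeries,
      (Subgroup.lowerCentralSeries_eq_bot_iff_nilpotencyClass_le).2 h, Subgroup.map_bot]
  omega

theorem essential_aux [Finite S] (p : ℕ) [Fact p.Prime] (hS : IsPGroup p ↥S) (F : FusionSystem S)
    (hF : F.IsSaturated p) (Z2 ZS : Subgroup Ω)
    (hZS : ∀ w, w ∈ ZS ↔ w ∈ S ∧ ∀ s ∈ S, s * w = w * s) (hZSZ2 : ZS ≤ Z2) (hZ2S : Z2 ≤ S)
    (hZ2n : ∀ s ∈ S, ∀ x ∈ Z2, s * x * s⁻¹ ∈ Z2) (hZ2comm : ∀ x ∈ Z2, ∀ y ∈ Z2, x * y = y * x)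
    (hcardZS : Nat.card ZS = p)
    (hidx : Nat.card S = p * Nat.card (S ⊓ Subgroup.centralizer (Z2 : Set Ω) : Subgroup Ω))
    (φ : ↥Z2 →* Ω) (hφ : φ ∈ F.Hom Z2) (hφZ : φ.range = Z2)
    (hmove : ∃ (z : Ω) (hz : z ∈ Z2), z ∈ ZS ∧ φ ⟨z, hz⟩ ∉ ZS) :
    F.IsEssential p (S ⊓ Subgroup.centralizer (Z2 : Set Ω)) := by
  classical
  have hp : p.Prime := Fact.out
  obtain ⟨C, hCdef⟩ : ∃ C : Subgroup Ω, C = S ⊓ Subgroup.centralizer (Z2 : Set Ω) := ⟨_, rfl⟩
  rw [← hCdef] at hidx ⊢
  have hCmem : ∀ c, c ∈ C ↔ c ∈ S ∧ ∀ x ∈ Z2, x * c = c * x := by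
    intro c
    rw [hCdef, Subgroup.mem_inf, Subgroup.mem_centralizer_iff]
    rfl
  have hCS : C ≤ S := fun c hc => ((hCmem c).1 hc).1
  have hZ2C : Z2 ≤ C := fun x hx => (hCmem x).2 ⟨hZ2S hx, fun y hy => hZ2comm y hy x hx⟩
  have hCfin : Finite C := Helper87.finite_of_le hCS
  have hZ2fin : Finite Z2 := Helper87.finite_of_le hZ2S
  have hZSfin : Finite ZS := Helper87.finite_of_le (hZSZ2.trans hZ2S)
  have hCn : ∀ s ∈ S, ∀ c ∈ C, s * c * s⁻¹ ∈ C := by
    intro s hs c hc
    rw [hCmem] at hc ⊢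
    refine ⟨S.mul_mem (S.mul_mem hs hc.1) (S.inv_mem hs), fun x hx => ?_⟩
    have hx' : s⁻¹ * x * s ∈ Z2 := by
      have h0 := hZ2n s⁻¹ (S.inv_mem hs) x hx
      rwa [inv_inv] at h0
    have h1 := hc.2 (s⁻¹ * x * s) hx'
    calc x * (s * c * s⁻¹) = s * (s⁻¹ * x * s * c) * s⁻¹ := by group
      _ = s * (c * (s⁻¹ * x * s)) * s⁻¹ := by rw [h1]
      _ = s * c * s⁻¹ * x := by group
  have hSN : S ≤ Subgroup.normalizer (C : Set Ω) := by
    intro s hs
    rw [Helper84.mem_normalizer_iff_conj]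
    exact hCn s hs
  have hNS : S ⊓ Subgroup.normalizer (C : Set Ω) = S :=
    le_antisymm inf_le_left (fun s hs => ⟨hs, hSN hs⟩)
  have hfn : F.IsFullyNormalized C := by
    refine ⟨hCS, fun Q _ => ?_⟩
    have h1 : normalizerIn S C = S := hNS
    rw [h1]
    exact Subgroup.card_le_of_le (inf_le_left : normalizerIn S Q ≤ S)
  obtain ⟨hfa, -⟩ := Helper86.fullyNormalized_imp hS F hF hfn
  have hfnZ : F.IsFullyNormalized Z2 := by
    refine ⟨hZ2S, fun Q _ => ?_⟩
    have hZ2N : S ≤ Subgroup.normalizer (Z2 : Set Ω) := by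
      intro s hs
      rw [Helper84.mem_normalizer_iff_conj]
      exact hZ2n s hs
    have h1 : normalizerIn S Z2 = S := le_antisymm inf_le_left (fun s hs => ⟨hs, hZ2N hs⟩)
    rw [h1]
    exact Subgroup.card_le_of_le (inf_le_left : normalizerIn S Q ≤ S)
  obtain ⟨-, hrec⟩ := Helper86.fullyNormalized_imp hS F hF hfnZ
  obtain ⟨ψ, hψ, hψx⟩ := hrec.2 Z2 φ hφ hφZ
  have hCE : C ≤ extender S Z2 φ := by
    rw [hCdef]
    exact Helper87.centralizerIn_le_extender S φ
  obtain ⟨θ, hθdef⟩ : ∃ θ : C →* Ω, θ = ψ.comp (Subgroup.inclusion hCE) := ⟨_, rfl⟩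
  have hθ : θ ∈ F.Hom C := by
    rw [hθdef]
    exact Helper87.hom_restrict F hCE hψ
  have hθZ : ∀ (x : Ω) (hx : x ∈ Z2), θ ⟨x, hZ2C hx⟩ = φ ⟨x, hx⟩ := by
    intro x hx
    rw [hθdef]
    exact hψx x hx (hCE (hZ2C hx))
  have hθinj : Function.Injective θ := F.injective_of_mem hθ
  have hθC : ∀ c : C, θ c ∈ C := by
    intro c
    rw [hCmem]
    refine ⟨(F.le_of_mem hθ).2 c, fun x hx => ?_⟩
    have hx' : x ∈ φ.range := by
      rw [hφZ]
      exact hx
    obtain ⟨y, hy⟩ := hx'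
    have h1 : θ ⟨y, hZ2C y.2⟩ = x := by
      rw [hθZ y y.2, ← hy]
    rw [← h1, ← map_mul, ← map_mul]
    congr 1
    apply Subtype.ext
    exact ((hCmem c).1 c.2).2 y y.2
  have hθrange : θ.range = C := by
    apply Subgroup.eq_of_le_of_card_ge
    · rintro _ ⟨c, rfl⟩
      exact hθC c
    · exact (Nat.card_congr (MonoidHom.ofInjective hθinj).toEquiv).le
  obtain ⟨φt, hφtdef⟩ : ∃ φt : MulAut C, φt = Helper87.isoOfHom θ hθinj hθrange := ⟨_, rfl⟩
  have hφtA : φt ∈ F.autGroup C := by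
    rw [Helper87.mem_autGroup_iff F hCS, hφtdef]
    have h1 := Helper87.subtype_comp_isoOfHom θ hθinj hθrange
    rw [h1]
    exact hθ
  have hφtapp : ∀ c : C, ((φt c : C) : Ω) = θ c := by
    intro c
    rw [hφtdef]
    rfl
  have hfinA : Finite (F.autGroup C) := Helper84.finite_autGroup F hCS
  have hIn : ((Inn C).subgroupOf (F.autGroup C)).Normal := inferInstance
  obtain ⟨R, hR⟩ := hfa.2
  have hInnS : Inn C ≤ autInducedBy S C := by
    rintro _ ⟨c, rfl⟩
    rw [Helper87.mem_autInducedBy_iff]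
    exact ⟨c, hCS c.2, fun x => rfl⟩
  obtain ⟨PX, hPX⟩ : ∃ PX : Sylow p (F.autGroup C ⧸ (Inn C).subgroupOf (F.autGroup C)),
      (PX : Subgroup (F.autGroup C ⧸ (Inn C).subgroupOf (F.autGroup C))) =
        ((autInducedBy S C).subgroupOf (F.autGroup C)).map
          (QuotientGroup.mk' ((Inn C).subgroupOf (F.autGroup C))) := by
    refine ⟨R.mapSurjective (QuotientGroup.mk'_surjective _), ?_⟩
    rw [Sylow.coe_mapSurjective, hR]
  have hnotN : ¬ (PX : Subgroup (F.autGroup C ⧸ (Inn C).subgroupOf (F.autGroup C))).Normal := by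
    intro hPn
    have hASn : ∀ α : F.autGroup C, ∀ β ∈ (autInducedBy S C).subgroupOf (F.autGroup C),
        α * β * α⁻¹ ∈ (autInducedBy S C).subgroupOf (F.autGroup C) := by
      intro α β hβ
      have h1 : QuotientGroup.mk' ((Inn C).subgroupOf (F.autGroup C)) (α * β * α⁻¹) ∈
          (PX : Subgroup (F.autGroup C ⧸ (Inn C).subgroupOf (F.autGroup C))) := by
        rw [map_mul, map_mul, map_inv]
        apply hPn.conj_mem
        rw [hPX]
        exact Subgroup.mem_map_of_mem _ hβ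
      rw [hPX] at h1
      obtain ⟨β', hβ', hβeq⟩ := h1
      have h2 : β'⁻¹ * (α * β * α⁻¹) ∈ (Inn C).subgroupOf (F.autGroup C) := by
        rw [← QuotientGroup.eq]
        exact hβeq
      have h3 : β'⁻¹ * (α * β * α⁻¹) ∈ (autInducedBy S C).subgroupOf (F.autGroup C) := by
        rw [Subgroup.mem_subgroupOf] at h2 ⊢
        exact hInnS h2
      have h4 := Subgroup.mul_mem _ hβ' h3
      rwa [mul_inv_cancel_left] at h4
    obtain ⟨z, hz, hzZ, hzφ⟩ := hmove
    apply hzφ
    rw [hZS]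
    refine ⟨(F.le_of_mem hφ).2 _, fun t ht => ?_⟩
    have htN : t ∈ Subgroup.normalizer (C : Set Ω) := hSN ht
    have hctS : Helper87.conjAut C t htN ∈ autInducedBy S C :=
      Helper87.conjAut_mem_autInducedBy S C ht htN
    have hctA : Helper87.conjAut C t htN ∈ F.autGroup C :=
      Helper87.autInducedBy_le_autGroup F hCS hctS
    have h1 := hASn (⟨φt, hφtA⟩⁻¹) ⟨Helper87.conjAut C t htN, hctA⟩
      (Subgroup.mem_subgroupOf.2 hctS)
    rw [Subgroup.mem_subgroupOf] at h1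
    have h1' : φt⁻¹ * Helper87.conjAut C t htN * φt ∈ autInducedBy S C := by
      simpa using h1
    rw [Helper87.mem_autInducedBy_iff] at h1'
    obtain ⟨s, hs, hsx⟩ := h1'
    have hzC : z ∈ C := hZ2C hz
    have h2 := hsx ⟨z, hzC⟩
    have hzc : s * z * s⁻¹ = z := by
      have h0 := ((hZS z).1 hzZ).2 s hs
      rw [h0, mul_inv_cancel_right]
    rw [hzc] at h2
    have h3 : (φt⁻¹ * Helper87.conjAut C t htN * φt) ⟨z, hzC⟩ =
        φt⁻¹ (Helper87.conjAut C t htN (φt ⟨z, hzC⟩)) := rfl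
    rw [h3] at h2
    have h4 : φt⁻¹ (Helper87.conjAut C t htN (φt ⟨z, hzC⟩)) = ⟨z, hzC⟩ := Subtype.ext h2
    have h5 : Helper87.conjAut C t htN (φt ⟨z, hzC⟩) = φt ⟨z, hzC⟩ := by
      have h0 := congrArg φt h4
      rwa [MulAut.apply_inv_self] at h0
    have h6 := congrArg Subtype.val h5
    rw [Helper87.conjAut_apply, hφtapp, hθZ z hz] at h6
    calc t * φ ⟨z, hz⟩ = t * φ ⟨z, hz⟩ * t⁻¹ * t := by group
      _ = φ ⟨z, hz⟩ * t := by rw [h6]
  have hcardPX : Nat.card (PX : Subgroup (F.autGroup C ⧸ (Inn C).subgroupOf (F.autGroup C))) ∣ p := by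
    obtain ⟨ρ, hρ⟩ : ∃ ρ : ↥(S ⊓ Subgroup.normalizer (C : Set Ω)) →* F.autGroup C,
        ∀ g, ((ρ g : F.autGroup C) : MulAut C) = Helper87.conjAutHom S C g :=
      ⟨(Helper87.conjAutHom S C).codRestrict (F.autGroup C) (fun g =>
        Helper87.autInducedBy_le_autGroup F hCS
          (Helper87.conjAut_mem_autInducedBy S C g.2.1 g.2.2)), fun g => rfl⟩
    have hrange : ((QuotientGroup.mk' ((Inn C).subgroupOf (F.autGroup C))).comp ρ).range =
        (PX : Subgroup (F.autGroup C ⧸ (Inn C).subgroupOf (F.autGroup C))) := by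
      rw [hPX, MonoidHom.range_comp]
      congr 1
      ext α
      rw [Subgroup.mem_subgroupOf, ← Helper87.range_conjAutHom]
      constructor
      · rintro ⟨g, rfl⟩
        exact ⟨g, (hρ g).symm⟩
      · rintro ⟨g, hg⟩
        exact ⟨g, Subtype.ext ((hρ g).trans hg)⟩
    have hker : (C.subgroupOf (S ⊓ Subgroup.normalizer (C : Set Ω))) ≤
        ((QuotientGroup.mk' ((Inn C).subgroupOf (F.autGroup C))).comp ρ).ker := by
      intro g hg
      rw [Subgroup.mem_subgroupOf] at hg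
      rw [MonoidHom.mem_ker, MonoidHom.comp_apply, QuotientGroup.mk'_apply,
        QuotientGroup.eq_one_iff, Subgroup.mem_subgroupOf, hρ]
      refine ⟨⟨(g : Ω), hg⟩, ?_⟩
      ext x
      rfl
    have h1 := Subgroup.index_dvd_of_le hker
    rw [Subgroup.index_ker, hrange] at h1
    have hidx2 : (C.subgroupOf (S ⊓ Subgroup.normalizer (C : Set Ω))).index = p := by
      have hCNS : C ≤ S ⊓ Subgroup.normalizer (C : Set Ω) :=
        fun c hc => ⟨hCS hc, Subgroup.le_normalizer hc⟩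
      have h2 := Subgroup.card_mul_index (C.subgroupOf (S ⊓ Subgroup.normalizer (C : Set Ω)))
      rw [Nat.card_congr (Subgroup.subgroupOfEquivOfLe hCNS).toEquiv] at h2
      have h3 : Nat.card ↥(S ⊓ Subgroup.normalizer (C : Set Ω)) = Nat.card S := by
        rw [hNS]
      rw [h3, hidx, mul_comm] at h2
      exact Nat.eq_of_mul_eq_mul_right Nat.card_pos h2
    rw [hidx2] at h1
    exact h1
  have hPXne : (PX : Subgroup (F.autGroup C ⧸ (Inn C).subgroupOf (F.autGroup C))) ≠ ⊥ := by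
    intro h
    apply hnotN
    rw [h]
    infer_instance
  have hcardPX' : Nat.card (PX : Subgroup (F.autGroup C ⧸ (Inn C).subgroupOf (F.autGroup C))) = p := by
    rcases (Nat.dvd_prime hp).1 hcardPX with h | h
    · exact absurd (Subgroup.card_eq_one.1 h) hPXne
    · exact h
  have hcardC1 : 1 < Nat.card C := by
    have h1 := Subgroup.card_le_of_le (hZSZ2.trans hZ2C)
    rw [hcardZS] at h1
    have := hp.one_lt
    omega
  refine ⟨⟨hCS, ?_⟩, hfn, hIn, Subgroup.normalizer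
    ((PX : Subgroup (F.autGroup C ⧸ (Inn C).subgroupOf (F.autGroup C))) : Set _), ?_, ?_, PX, ?_⟩
  · rintro Q ⟨θ', hθ', rfl⟩
    intro c hc
    have hcS : c ∈ S := hc.1
    have hcQ : ∀ x ∈ θ'.range, x * c = c * x := fun x hx => hc.2 x hx
    by_contra hcn
    have hQS : θ'.range ≤ S := by
      rintro _ ⟨x, rfl⟩
      exact (F.le_of_mem hθ').2 x
    have hcardQ : Nat.card θ'.range = Nat.card C :=
      (Nat.card_congr (MonoidHom.ofInjective (F.injective_of_mem hθ')).toEquiv).symm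
    obtain ⟨Q', hQ'def⟩ : ∃ Q' : Subgroup ↥S, Q' = θ'.range.subgroupOf S := ⟨_, rfl⟩
    have hcardQ' : Nat.card Q' = Nat.card C := by
      rw [hQ'def, Nat.card_congr (Subgroup.subgroupOfEquivOfLe hQS).toEquiv, hcardQ]
    have hidxQ' : Q'.index = p := by
      have h2 := Subgroup.card_mul_index Q'
      rw [hcardQ', hidx, mul_comm] at h2
      exact Nat.eq_of_mul_eq_mul_right Nat.card_pos h2
    have hQ'K : Q' ≤ Subgroup.centralizer ({(⟨c, hcS⟩ : S)} : Set S) := by
      intro x hx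
      rw [hQ'def, Subgroup.mem_subgroupOf] at hx
      rw [Pearl.mem_cent_singleton]
      exact Subtype.ext (hcQ x hx).symm
    have h3 := Subgroup.relIndex_mul_index hQ'K
    rw [hidxQ'] at h3
    have hKidx : (Subgroup.centralizer ({(⟨c, hcS⟩ : S)} : Set S)).index ∣ p := Dvd.intro_left _ h3
    rcases (Nat.dvd_prime hp).1 hKidx with h | h
    · rw [Subgroup.index_eq_one] at h
      have hcZ : c ∈ ZS := by
        rw [hZS]
        refine ⟨hcS, fun s hs => ?_⟩
        have h4 : (⟨s, hs⟩ : S) ∈ Subgroup.centralizer ({(⟨c, hcS⟩ : S)} : Set S) := by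
          rw [h]
          exact Subgroup.mem_top _
        have h5 := Pearl.mem_cent_singleton.1 h4
        exact (congrArg Subtype.val h5).symm
      have hQ'n : Q'.Normal := by
        apply Subgroup.normal_of_index_eq_minFac_card
        rw [hidxQ']
        obtain ⟨m, hm⟩ := IsPGroup.iff_card.1 hS
        have hm0 : m ≠ 0 := by
          rintro rfl
          rw [pow_zero] at hm
          rw [hm] at hidx
          have := hp.one_lt
          nlinarith [hidx, hcardC1]
        rw [hm, Nat.Prime.pow_minFac hp hm0]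
      have hQ'ne : Q' ≠ ⊥ := by
        intro h0
        rw [h0, Subgroup.card_bot] at hcardQ'
        omega
      obtain ⟨z, hzQ, hz1, hzc⟩ := Helper53.exists_mem_center_of_normal_of_ne_bot hS Q' hQ'ne
      have hzZS : (z : Ω) ∈ ZS := by
        rw [hZS]
        refine ⟨z.2, fun s hs => ?_⟩
        have h5 := Subgroup.mem_center_iff.1 hzc ⟨s, hs⟩
        exact congrArg Subtype.val h5
      have hzQ' : (z : Ω) ∈ θ'.range := by
        rw [hQ'def, Subgroup.mem_subgroupOf] at hzQ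
        exact hzQ
      have hinf : ZS ⊓ θ'.range = ZS := by
        apply Subgroup.eq_of_le_of_card_ge inf_le_left
        have hd : Nat.card (ZS ⊓ θ'.range : Subgroup Ω) ∣ p := by
          rw [← hcardZS]
          exact Subgroup.card_dvd_of_le inf_le_left
        rcases (Nat.dvd_prime hp).1 hd with h6 | h6
        · exfalso
          have h7 : (z : Ω) ∈ ZS ⊓ θ'.range := ⟨hzZS, hzQ'⟩
          rw [Subgroup.card_eq_one.1 h6, Subgroup.mem_bot] at h7
          exact hz1 (Subtype.ext h7)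
        · rw [hcardZS, h6]
      have hcQ' : c ∈ ZS ⊓ θ'.range := by
        rw [hinf]
        exact hcZ
      exact hcn hcQ'.2
    · rw [h] at h3
      have h4 : Q'.relIndex (Subgroup.centralizer ({(⟨c, hcS⟩ : S)} : Set S)) = 1 := by
        have h5 : Q'.relIndex (Subgroup.centralizer ({(⟨c, hcS⟩ : S)} : Set S)) * p = 1 * p := by
          rw [h3, one_mul]
        exact Nat.eq_of_mul_eq_mul_right hp.pos h5
      rw [Subgroup.relIndex_eq_one] at h4
      have h6 : (⟨c, hcS⟩ : S) ∈ Q' := h4 (Pearl.mem_cent_singleton.2 rfl)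
      rw [hQ'def, Subgroup.mem_subgroupOf] at h6
      exact hcn h6
  · rw [← hcardPX']
    exact Subgroup.card_subgroup_dvd_card _
  · intro h
    exact hnotN (Subgroup.normalizer_eq_top_iff.1 h)
  · unfold kGeneratedCore
    apply iSup_le
    rintro ⟨Q, hQP, hQr⟩
    have hQ : Q = (PX : Subgroup (F.autGroup C ⧸ (Inn C).subgroupOf (F.autGroup C))) := by
      apply Subgroup.eq_of_le_of_card_ge hQP
      rw [hcardPX']
      obtain ⟨x, hxQ, hx1⟩ := Helper84.exists_ne_one_of_not_pRankLE_zero hQr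
      have hd : Nat.card Q ∣ p := by
        rw [← hcardPX']
        exact Subgroup.card_dvd_of_le hQP
      rcases (Nat.dvd_prime hp).1 hd with h | h
      · exfalso
        rw [Subgroup.card_eq_one.1 h, Subgroup.mem_bot] at hxQ
        exact hx1 hxQ
      · exact h.ge
    show Subgroup.normalizer (Q : Set (F.autGroup C ⧸ (Inn C).subgroupOf (F.autGroup C))) ≤ _
    rw [hQ]

end Cfsg.Agent.Lib.Helper85.MaxCls
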