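import Cfsg.Agent.Lib.Helper85.Realized
import Cfsg.Agent.Lib.Helper85.FusionNormal
import Cfsg.Agent.Lib.Helper87.FusionBasic
import Cfsg.Agent.Lib.Helper87.FusionNormal
import Cfsg.Agent.Lib.Helper63.PLength
import Cfsg.Agent.Lib.Helper86.GroupFusion

set_option autoImplicit false
open Cfsg Cfsg.FusionSystem

namespace Cfsg.Agent.Lib.Helper85.ModelCore

open Cfsg.Agent.Lib.Helper85

variable {Ω : Type*} [Group Ω] {S : Subgroup Ω} {G : Type*} [Group G]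

/-- Conjugation by `g`, read through `ι`, is a map of a system realized by `ι`. -/
theorem conj_hom_mem {F : FusionSystem S} {ι : S →* G} (hreal : F.IsRealizedBy ι)
    {P : Subgroup Ω} (hP : P ≤ S) (g : G)
    (hg : ∀ x : P, g * ι ⟨x, hP x.2⟩ * g⁻¹ ∈ ι.range) :
    ∃ ψ ∈ F.Hom P, ∃ hψ : ∀ x : P, ψ x ∈ S,
      ∀ x : P, ι ⟨ψ x, hψ x⟩ = g * ι ⟨x, hP x.2⟩ * g⁻¹ := by
  obtain ⟨ψ, hψ, h⟩ := exists_lift_conj hreal.1 hP g hg
  exact ⟨ψ, (hreal.2 P hP ψ hψ).2 ⟨g, h⟩, hψ, h⟩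

theorem preSub_mono (ι : S →* G) {A B : Subgroup G} (h : A ≤ B) : preSub ι A ≤ preSub ι B :=
  Subgroup.map_mono (Subgroup.comap_mono h)

/-- The preimage of a normal subgroup of the realizing group (inside the image of `S`) is normal in the system. -/
theorem isNormal_preSub {F : FusionSystem S} {ι : S →* G} (hreal : F.IsRealizedBy ι)
    (R' : Subgroup G) [hn : R'.Normal] (hR' : R' ≤ ι.range) : F.IsNormal (preSub ι R') := by
  refine ⟨preSub_le ι R', fun P φ hφ => ?_⟩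
  obtain ⟨hP, hφS⟩ := F.le_of_mem hφ
  obtain ⟨g, hg⟩ := (hreal.2 P hP φ hφS).1 hφ
  have hK : P ⊔ preSub ι R' ≤ S := sup_le hP (preSub_le ι R')
  have hKg : ∀ x : ↥(P ⊔ preSub ι R'), g * ι ⟨x, hK x.2⟩ * g⁻¹ ∈ ι.range := by
    let T : Subgroup S := (ι.range).comap ((MulAut.conj g).toMonoidHom.comp ι)
    have hT : P ⊔ preSub ι R' ≤ T.map S.subtype := by
      refine sup_le ?_ ?_
      · intro x hx
        refine ⟨⟨x, hP hx⟩, ?_, rfl⟩
        show g * ι ⟨x, hP hx⟩ * g⁻¹ ∈ ι.range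
        rw [← hg ⟨x, hx⟩]
        exact ⟨_, rfl⟩
      · intro x hx
        obtain ⟨hxS, hx'⟩ := mem_preSub.mp hx
        refine ⟨⟨x, hxS⟩, ?_, rfl⟩
        show g * ι ⟨x, hxS⟩ * g⁻¹ ∈ ι.range
        exact hR' (hn.conj_mem _ hx' g)
    intro x
    obtain ⟨y, hy, hyx⟩ := hT x.2
    have hyx' : y = ⟨x, hK x.2⟩ := Subtype.ext hyx
    rw [← hyx']
    exact hy
  obtain ⟨ψ, hψ, hψS, hψg⟩ := conj_hom_mem hreal hK g hKg
  refine ⟨ψ, hψ, ?_, ?_⟩
  · intro x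
    have h1 : ι ⟨ψ (Subgroup.inclusion le_sup_left x), hψS _⟩ = ι ⟨φ x, hφS x⟩ := by
      rw [hψg, hg]
      rfl
    exact congrArg Subtype.val (hreal.1 h1)
  · rw [map_subgroupOf_eq_iff]
    refine ⟨fun x hx => ?_, fun y hy => ?_⟩
    · obtain ⟨hxS, hx'⟩ := mem_preSub.mp hx
      refine mem_preSub.mpr ⟨hψS x, ?_⟩
      rw [hψg]
      exact hn.conj_mem _ hx' g
    · obtain ⟨hyS, hy'⟩ := mem_preSub.mp hy
      have h1 : g⁻¹ * ι ⟨y, hyS⟩ * g ∈ R' := by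
        have := hn.conj_mem _ hy' g⁻¹
        rwa [inv_inv] at this
      obtain ⟨x', hx'⟩ := hR' h1
      have hx'R : (x' : Ω) ∈ preSub ι R' := mem_preSub.mpr ⟨x'.2, by rw [Subtype.coe_eta, hx']; exact h1⟩
      have hx'K : (x' : Ω) ∈ P ⊔ preSub ι R' := (le_sup_right : preSub ι R' ≤ P ⊔ preSub ι R') hx'R
      refine ⟨⟨x', hx'K⟩, hx'R, ?_⟩
      have h2 : ι ⟨ψ ⟨x', hx'K⟩, hψS _⟩ = ι ⟨y, hyS⟩ := by
        rw [hψg]
        have h3 : ι ⟨((⟨x', hx'K⟩ : ↥(P ⊔ preSub ι R')) : Ω), hK hx'K⟩ = ι x' := rfl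
        rw [h3, hx']
        group
      exact congrArg Subtype.val (hreal.1 h2)

/-- If `R' ⊴ G` lies in the image of `S` and contains its centralizer, then every subgroup normal in the
system has normal image in `G`. -/
theorem normal_imSub {F : FusionSystem S} {ι : S →* G} (hreal : F.IsRealizedBy ι)
    (R' : Subgroup G) [hn : R'.Normal] (hR' : R' ≤ ι.range)
    (hc : Subgroup.centralizer (R' : Set G) ≤ R') {Q : Subgroup Ω} (hQ : F.IsNormal Q) :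
    (imSub ι Q).Normal := by
  have hQS : ∀ s ∈ S, ∀ q ∈ Q, s * q * s⁻¹ ∈ Q := by
    intro s hs q hq
    exact (Cfsg.Agent.Lib.Helper87.isNormal_stronglyClosed F hQ).2 Q le_rfl _
      (F.conj_mem hQ.1 hs) ⟨q, hq⟩
  constructor
  intro y hy g
  obtain ⟨q, hq, rfl⟩ := mem_imSub.mp hy
  have hRS : preSub ι R' ≤ S := preSub_le ι R'
  have hgR : ∀ x : ↥(preSub ι R'), g * ι ⟨x, hRS x.2⟩ * g⁻¹ ∈ ι.range := fun x =>
    hR' (hn.conj_mem _ (map_mem_of_mem_preSub x) g)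
  obtain ⟨φ, hφ, hφS, hφg⟩ := conj_hom_mem hreal hRS g hgR
  obtain ⟨ψ, hψ, hext, hmap⟩ := hQ.2 _ φ hφ
  obtain ⟨hK, hψS⟩ := F.le_of_mem hψ
  obtain ⟨h, hh⟩ := (hreal.2 _ hK ψ hψS).1 hψ
  have hcR : h⁻¹ * g ∈ R' := by
    apply hc
    rw [Subgroup.mem_centralizer_iff]
    intro z hz
    obtain ⟨x, rfl⟩ := hR' hz
    have hxR : (x : Ω) ∈ preSub ι R' := mem_preSub.mpr ⟨x.2, hz⟩
    have h1 := hh (Subgroup.inclusion le_sup_left ⟨x, hxR⟩)
    have h2 := hφg ⟨x, hxR⟩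
    have h3 : ι ⟨ψ (Subgroup.inclusion le_sup_left ⟨(x : Ω), hxR⟩), hψS _⟩ =
        ι ⟨φ ⟨x, hxR⟩, hφS _⟩ := by
      congr 1
      exact Subtype.ext (hext _)
    have h4 : h * ι x * h⁻¹ = g * ι x * g⁻¹ := by
      have e1 : ι ⟨((Subgroup.inclusion le_sup_left (⟨(x : Ω), hxR⟩ : ↥(preSub ι R')) :
          ↥(preSub ι R' ⊔ Q)) : Ω), hK (Subgroup.inclusion le_sup_left
            (⟨(x : Ω), hxR⟩ : ↥(preSub ι R'))).2⟩ = ι x := rfl
      have e2 : ι ⟨((⟨(x : Ω), hxR⟩ : ↥(preSub ι R')) : Ω), hRS hxR⟩ = ι x := rfl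
      rw [e1] at h1
      rw [e2] at h2
      rw [← h1, h3, h2]
    calc ι x * (h⁻¹ * g) = h⁻¹ * (h * ι x * h⁻¹) * g := by group
      _ = h⁻¹ * (g * ι x * g⁻¹) * g := by rw [h4]
      _ = h⁻¹ * g * ι x := by group
  obtain ⟨r, hr⟩ := hR' hcR
  have hq' : (r : Ω) * q * (r : Ω)⁻¹ ∈ Q := hQS r r.2 q hq
  have hq'K : (r : Ω) * q * (r : Ω)⁻¹ ∈ preSub ι R' ⊔ Q :=
    (le_sup_right : Q ≤ preSub ι R' ⊔ Q) hq'
  have h5 := hh ⟨_, hq'K⟩
  have h6 : ι ⟨((⟨(r : Ω) * q * (r : Ω)⁻¹, hq'K⟩ : ↥(preSub ι R' ⊔ Q)) : Ω), hK hq'K⟩ =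
      ι r * ι q * (ι r)⁻¹ := by
    rw [← map_inv, ← map_mul, ← map_mul]
    rfl
  rw [h6, hr] at h5
  have h7 : g * ι q * g⁻¹ = h * (h⁻¹ * g * ι q * (h⁻¹ * g)⁻¹) * h⁻¹ := by group
  rw [h7, ← h5]
  refine mem_imSub.mpr ⟨⟨_, hψS _⟩, ?_, rfl⟩
  rw [map_subgroupOf_eq_iff] at hmap
  exact hmap.1 _ hq'

/-- A normal subgroup of `G` inside the image of `S` that contains its centralizer has centric preimage. -/
theorem isCentric_preSub {F : FusionSystem S} {ι : S →* G} (hreal : F.IsRealizedBy ι)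
    (R' : Subgroup G) [hn : R'.Normal] (hR' : R' ≤ ι.range)
    (hc : Subgroup.centralizer (R' : Set G) ≤ R') : F.IsCentric (preSub ι R') := by
  have hN := isNormal_preSub hreal R' hR'
  refine ⟨hN.1, ?_⟩
  rintro Q ⟨φ, hφ, rfl⟩
  have hrange : φ.range = preSub ι R' := by
    obtain ⟨ψ, -, hext, hmap⟩ := hN.2 _ φ hφ
    rw [map_subgroupOf_eq_iff] at hmap
    ext y
    constructor
    · rintro ⟨x, rfl⟩
      rw [← hext x]
      exact hmap.1 _ x.2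
    · intro hy
      obtain ⟨x, hx, rfl⟩ := hmap.2 y hy
      refine ⟨⟨x, hx⟩, ?_⟩
      rw [← hext]
      rfl
  rw [hrange]
  rintro x ⟨hxS, hxc⟩
  refine mem_preSub.mpr ⟨hxS, hc ?_⟩
  rw [Subgroup.mem_centralizer_iff]
  intro z hz
  obtain ⟨y, rfl⟩ := hR' hz
  have hyR : (y : Ω) ∈ preSub ι R' := mem_preSub.mpr ⟨y.2, hz⟩
  have h1 := (Subgroup.mem_centralizer_iff.mp hxc) y hyR
  rw [← map_mul, ← map_mul]
  congr 1
  exact Subtype.ext h1

/-- The conjugation action of `G` on the preimage of a normal subgroup inside the image of `S`: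
its image is `Aut_F` of the preimage and its kernel is the centralizer. -/
theorem exists_autHom {F : FusionSystem S} {ι : S →* G} (hreal : F.IsRealizedBy ι)
    (R' : Subgroup G) [hn : R'.Normal] (hR' : R' ≤ ι.range) :
    ∃ Φ : G →* MulAut ↥(preSub ι R'), Φ.range = F.autGroup (preSub ι R') ∧
      Φ.ker = Subgroup.centralizer (R' : Set G) := by
  obtain ⟨e, he⟩ := exists_equiv_preSub hreal.1 hR'
  let Φ : G →* MulAut ↥(preSub ι R') := (MulAut.congr e.symm).toMonoidHom.comp MulAut.conjNormal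
  have hΦ : ∀ (g : G) (x : ↥(preSub ι R')),
      ι ⟨(Φ g x : ↥(preSub ι R')), preSub_le ι R' (Φ g x).2⟩ =
        g * ι ⟨x, preSub_le ι R' x.2⟩ * g⁻¹ := by
    intro g x
    rw [← he, ← he]
    show ((e (e.symm (MulAut.conjNormal g (e x))) : R') : G) = _
    rw [e.apply_symm_apply, MulAut.conjNormal_apply]
  refine ⟨Φ, ?_, ?_⟩
  · ext α
    rw [Cfsg.Agent.Lib.Helper87.mem_autGroup_iff F (preSub_le ι R'),
      hreal.2 _ (preSub_le ι R') _ (fun x => preSub_le ι R' (α x).2)]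
    constructor
    · rintro ⟨g, rfl⟩
      exact ⟨g, fun x => hΦ g x⟩
    · rintro ⟨g, hg⟩
      refine ⟨g, ?_⟩
      ext x
      have h1 : ι ⟨(Φ g x : ↥(preSub ι R')), preSub_le ι R' (Φ g x).2⟩ =
          ι ⟨(α x : ↥(preSub ι R')), preSub_le ι R' (α x).2⟩ := by
        rw [hΦ]
        exact (hg x).symm
      exact Subtype.mk.inj (hreal.1 h1)
  · ext g
    rw [MonoidHom.mem_ker, Subgroup.mem_centralizer_iff]
    constructor
    · intro h z hz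
      obtain ⟨y, rfl⟩ := hR' hz
      have hy : (y : Ω) ∈ preSub ι R' := mem_preSub.mpr ⟨y.2, hz⟩
      have h1 := hΦ g ⟨y, hy⟩
      rw [h] at h1
      have h2 : ι y = g * ι y * g⁻¹ := h1
      calc ι y * g = (g * ι y * g⁻¹) * g := by rw [← h2]
        _ = g * ι y := by group
    · intro h
      ext x
      have h1 := hΦ g x
      have h2 : g * ι ⟨x, preSub_le ι R' x.2⟩ * g⁻¹ = ι ⟨x, preSub_le ι R' x.2⟩ := by
        have h3 := h _ (map_mem_of_mem_preSub x)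
        rw [← h3]
        group
      rw [h2] at h1
      exact Subtype.mk.inj (hreal.1 h1)

end Cfsg.Agent.Lib.Helper85.ModelCore
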